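import Cfsg.Agent.Lib.CZ.Pgl
import Cfsg.Agent.Lib.FT.Final
import Cfsg.Agent.Lib.Transfer.Basic

/-!
Products of a cyclic group and a Z-group.
-/

set_option autoImplicit false
set_option linter.unusedSectionVars false
set_option linter.unusedVariables false

universe u

namespace Cfsg.Lib.CZ
open Subgroup Cfsg.Lib Cfsg.Lib.FT MulAction

section
variable {G : Type*} [Group G] [Finite G] {a : G} {B : Subgroup G}

theorem inf_le_core (h : ∀ g : G, ∃ α ∈ zpowers a, ∃ b ∈ B, g = α * b) : zpowers a ⊓ B ≤ B.normalCore :=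
  fun α hα g => by
    obtain ⟨β, h1, b, h2, e⟩ := h g⁻¹
    rw [inv_eq_iff_eq_inv.1 e, inv_inv, mul_inv_rev, mul_assoc, ← mul_assoc α, zc hα.1 h1]
    simpa [mul_assoc] using mul_mem (inv_mem h2) (mul_mem hα.2 h2)

theorem index_dvd {A : Subgroup G} (h : ∀ g : G, ∃ α ∈ A, ∃ b ∈ B, g = α * b) : B.index ∣ Nat.card A := by
  have : IsPretransitive A (G ⧸ B) := ⟨fun x y => by
    obtain ⟨x, rfl⟩ := QuotientGroup.mk_surjective x
    obtain ⟨y, rfl⟩ := QuotientGroup.mk_surjective y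
    obtain ⟨α, h1, b, h2, rfl⟩ := h x
    obtain ⟨β, h3, c, h4, rfl⟩ := h y
    exact ⟨⟨β * α⁻¹, mul_mem h3 (inv_mem h1)⟩, QuotientGroup.eq.2 (by simpa [mul_assoc] using mul_mem (inv_mem h2) h4)⟩⟩
  exact (index_stabilizer_of_transitive A (((1 : G) : G ⧸ B))).symm.dvd.trans (index_dvd_card _)

theorem solv_of_odd [IsZGroup B] (h : ¬ 2 ∣ B.index) : Group.IsSolvable G := by
  obtain ⟨Q, hQ⟩ := exists_isSylowIn 2 B
  have : IsZGroup Q := .of_injective (inclusion_injective hQ.le)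
  obtain ⟨N, _, h1, h2⟩ := hasNormalPComplement_iff_exists.1 (hasNormalPComplement_two_of_isCyclic
    (hQ.isPGroup.toSylow (by
      rw [← relIndex_mul_index hQ.le, Nat.prime_two.dvd_mul, not_or]; exact ⟨hQ.not_dvd_relIndex, h⟩))
    ((topEquiv (G := Q)).isCyclic.1 (hQ.isPGroup.to_subgroup ⊤).isCyclic_of_isZGroup))
  have := h2.isNilpotent
  have := odd_order_solvable (G := N) (Nat.odd_iff.2 (by omega))
  exact Group.isSolvable_of_ker_le_range N.subtype (QuotientGroup.mk' N) (by simp)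

theorem tz_of_coatom [IsZGroup B] (hs : ¬ Group.IsSolvable G) (h : ∀ g : G, ∃ α ∈ zpowers a, ∃ b ∈ B, g = α * b)
    (hB : IsCoatom B) (hc : B.normalCore = ⊥) : TZ (G ⧸ B) a := by
  have h1 : 2 ∣ B.index := by_contra fun e => hs (solv_of_odd e)
  obtain ⟨z, hz, z2⟩ := exists_mem_orderOf_eq_of_dvd (h1.trans (index_dvd h))
  have hf : ∀ g : G, (∀ x : G ⧸ B, g • x = x) → g = 1 := fun g e =>
    mem_bot.1 (hc ▸ B.normalCore_eq_ker ▸ (Equiv.ext e : toPermHom G (G ⧸ B) g = 1))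
  have h2 : ∀ x y : G ⧸ B, x ≠ y → ∃ g : G, g • x = ((1 : G) : G ⧸ B) ∧ g • y = (z : G ⧸ B) := fun x y e => by
    obtain ⟨x, rfl⟩ := QuotientGroup.mk_surjective x
    obtain ⟨y, rfl⟩ := QuotientGroup.mk_surjective y
    obtain ⟨b, hb, b', hb', e1⟩ := schur inferInstance h (eq_bot_iff.2 (hc ▸ inf_le_core h)) hB hz z2
      (mt QuotientGroup.eq.2 e)
    exact ⟨b * x⁻¹, QuotientGroup.eq.2 (by simpa using hb), QuotientGroup.eq.2 (by simpa [e1, mul_assoc] using hb')⟩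
  refine ⟨hf, fun x y u v e1 e2 => ?_, fun x => ?_, fun x y => ?_, even_iff_two_dvd.2 h1,
    not_le.1 fun e => hs (solv_of_card_le hf (e.trans (by norm_num)))⟩
  · obtain ⟨g, g1, g2⟩ := h2 x y e1
    obtain ⟨k, k1, k2⟩ := h2 u v e2
    exact ⟨k⁻¹ * g, by rw [mul_smul, g1, ← k1, inv_smul_smul], by rw [mul_smul, g2, ← k2, inv_smul_smul]⟩
  · obtain ⟨x, rfl⟩ := QuotientGroup.mk_surjective x
    rw [show (x : G ⧸ B) = x • ((1 : G) : G ⧸ B) by simp, stabilizer_smul_eq_stabilizer_map_conj, stabilizer_quotient]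
    exact .of_surjective (MonoidHom.subgroupMap_surjective _ B)
  · obtain ⟨x, rfl⟩ := QuotientGroup.mk_surjective x
    obtain ⟨y, rfl⟩ := QuotientGroup.mk_surjective y
    obtain ⟨α, h1, b, h2, rfl⟩ := h x
    obtain ⟨β, h3, c, h4, rfl⟩ := h y
    exact ⟨β * α⁻¹, mul_mem h3 (inv_mem h1), QuotientGroup.eq.2 (by simpa [mul_assoc] using mul_mem (inv_mem h2) h4)⟩

end

theorem tz {G : Type u} [Group G] [Finite G] [Nontrivial G] (hs : solvRad G = ⊥) {a : G} {B : Subgroup G} [IsZGroup B]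
    (h : ∀ g : G, ∃ α ∈ zpowers a, ∃ b ∈ B, g = α * b) : TZ (G ⧸ B) a := by
  induction hn : Nat.card G using Nat.strong_induction_on generalizing G with
  | _ n ih =>
  have h0 : ∀ N : Subgroup G, N.Normal → Group.IsSolvable N → N = ⊥ := fun N h1 h2 => eq_bot_iff.2 (hs ▸ le_solvRad h1 h2)
  have hns : ¬ Group.IsSolvable G := fun e => top_ne_bot (h0 ⊤ inferInstance inferInstance)
  obtain ⟨M, hM, hBM⟩ := (eq_top_or_exists_le_coatom B).resolve_left fun e => hns (solv_of_odd (B := B) (by simp [e]))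
  have hM' : ∀ g : G, ∃ α ∈ zpowers a, ∃ b ∈ M, g = α * b := fun g =>
    let ⟨α, h1, b, h2, e⟩ := h g; ⟨α, h1, b, hBM h2, e⟩
  have h1 := inf_le_core hM'
  by_cases hN : M.normalCore = ⊥
  · obtain rfl : B = M := le_antisymm hBM fun g hg => by
      obtain ⟨α, h2, b, h3, rfl⟩ := h g
      rwa [mem_bot.1 (hN.le (h1 ⟨h2, (mul_mem_cancel_right (hBM h3)).1 hg⟩)), one_mul]
    exact tz_of_coatom hns h hM hN
  exfalso
  set N := M.normalCore
  have hNM : N ≤ M := normalCore_le M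
  have := (nontrivial_iff_ne_bot N).2 hN
  obtain ⟨c, hc⟩ := exists_gen (FT.isCyclic_of_le (inferInstance : IsCyclic (zpowers a)) (inf_le_left (b := N)))
  obtain ⟨c1, c2⟩ := mem_inf.1 (hc.le (mem_zpowers c))
  have : IsZGroup (B.subgroupOf N) := .of_injective (f := (N.subtype.comp (Subgroup.subtype _)).codRestrict B fun c => c.2)
    fun c d e => Subtype.ext (Subtype.ext (congrArg Subtype.val e :))
  have h2 : ∀ g ∈ N, ∃ α ∈ zpowers a ⊓ N, ∃ b ∈ B ⊓ N, g = α * b := fun g hg => by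
    obtain ⟨α, h2, b, h3, rfl⟩ := h g
    have := h1 ⟨h2, (mul_mem_cancel_right (hBM h3)).1 (hNM hg)⟩
    exact ⟨α, ⟨h2, this⟩, b, ⟨h3, (mul_mem_cancel_left this).1 hg⟩, rfl⟩
  have t := ih _ (hn ▸ (card_le_card_group N).lt_of_ne fun e => hM.1 (eq_top_iff.2 (eq_top_of_card_eq N e ▸ hNM)))
    (G := N) (a := ⟨c, c2⟩) (B := B.subgroupOf N) (map_eq_bot_iff_of_injective _ N.subtype_injective |>.1
      (h0 _ inferInstance (Group.isSolvable_of_surjective (N.subtype.subgroupMap_surjective _)))) (fun g => by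
        obtain ⟨α, h3, b, h4, e⟩ := h2 g g.2
        obtain ⟨k, e1⟩ := hc.ge h3
        exact ⟨⟨α, h3.2⟩, ⟨k, Subtype.ext e1⟩, ⟨b, h4.2⟩, h4.1, Subtype.ext e⟩) rfl
  obtain ⟨p, hp, h3, h4⟩ := t.syl t.sh ((1 : N) : N ⧸ B.subgroupOf N)
  have := Fact.mk hp
  rw [stabilizer_quotient] at h3 h4
  have h5 := h3.map N.subtype
  have h6 : ∀ g ∈ N, g ∈ N[map N.subtype ⁅B.subgroupOf N, B.subgroupOf N⁆] → g ∈ B := fun g hg e =>
    h4 (show (⟨g, hg⟩ : N) ∈ _ from comap_map_eq_self_of_injective N.subtype_injective ⁅B.subgroupOf N, B.subgroupOf N⁆ ▸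
      le_normalizer_comap N.subtype e)
  rw [← MonoidHom.range_eq_map, range_subtype] at h5
  rw [map_commutator, subgroupOf_map_subtype] at h5 h6
  have h7 : B ≤ N[B ⊓ N] := le_normalizer_inf le_normalizer (le_top.trans (normalizer_eq_top N).ge)
  replace h7 := le_normalizer_commutator h7 h7
  generalize ⁅B ⊓ N, B ⊓ N⁆ = J at h5 h6 h7
  have h8 : ∀ g : G, ∃ α ∈ zpowers a ⊓ N, α⁻¹ * g ∈ N[J] := fun g => by
    obtain ⟨k, h8, h9⟩ := h5.exists_mul_mem_normalizer (g := g) (le_normalizer_of_normal (mem_top g))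
    obtain ⟨α, h10, b, h11, rfl⟩ := h2 k h8
    exact ⟨α, h10, by simpa [mul_assoc] using mul_mem (h7 h11.1) h9⟩
  have h9 : zpowers a ⊓ N[J] ≤ N[J].normalCore := inf_le_core fun g =>
    let ⟨α, h1, h2⟩ := h8 g; ⟨α, h1.1, _, h2, by simp⟩
  have h10 : N[J].normalCore ⊓ N = ⊥ := h0 _ inferInstance (Group.isSolvable_of_isSolvable_injective
    (inclusion_injective (show N[J].normalCore ⊓ N ≤ B from fun g hg => h6 g hg.2 (normalCore_le _ hg.1))))
  obtain ⟨z, hz, z2⟩ := t.exists_z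
  have : IsZGroup (B.map (QuotientGroup.mk' N)) := .of_surjective (MonoidHom.subgroupMap_surjective _ B)
  have : Group.IsSolvable (G ⧸ N) := solv_of_odd (B := B.map (QuotientGroup.mk' N)) fun e => by
    obtain ⟨y, hy, y2⟩ := exists_mem_orderOf_eq_of_dvd ((e.trans (index_dvd
      (A := (zpowers a ⊓ N[J]).map (QuotientGroup.mk' N)) fun g => by
        obtain ⟨g, rfl⟩ := QuotientGroup.mk_surjective g
        obtain ⟨α, h2, b, h3, rfl⟩ := h g
        obtain ⟨β, h4, h5⟩ := h8 α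
        exact ⟨_, ⟨β⁻¹ * α, ⟨mul_mem ((zpowers a).inv_mem h4.1) h2, h5⟩, rfl⟩, _, ⟨b, h3, rfl⟩, by
          simp [(QuotientGroup.eq_one_iff β).2 h4.2]⟩)).trans (card_map_dvd _ _))
    obtain ⟨k, rfl⟩ := hz
    refine ne_one_of_orderOf_two y2 (mem_bot.1 (h10.le ⟨h9 hy, ?_⟩))
    rw [ci_invol_eq inferInstance hy.1 (zpow_mem c1 k) y2 ((orderOf_coe _).trans z2)]
    exact zpow_mem c2 k
  have h11 := h0 N[J].normalCore inferInstance (Group.isSolvable_of_isSolvable_injective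
    (f := (QuotientGroup.mk' N).comp N[J].normalCore.subtype) ((injective_iff_map_eq_one _).2 fun g e =>
      Subtype.ext (mem_bot.1 (h10.le ⟨g.2, (QuotientGroup.eq_one_iff _).1 e⟩))))
  refine hM.1 (eq_top_iff.2 fun g _ => ?_)
  obtain ⟨α, h2, b, h3, rfl⟩ := hM' g
  obtain ⟨β, h4, h5⟩ := h8 α
  exact mul_mem (inv_mul_eq_one.1 (mem_bot.1 (h11.le (h9 ⟨mul_mem ((zpowers a).inv_mem h4.1) h2, h5⟩))) ▸ hNM h4.2) h3

end Cfsg.Lib.CZ
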