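import Cfsg.Agent.Lib.CZ.Step
import Cfsg.Agent.Lib.FT.GW.Ratio

/-!
Identification of the doubly transitive groups of `CZ/Basic` with `PGL(2,p)`.
-/

set_option autoImplicit false
set_option linter.unusedSectionVars false
set_option linter.unusedVariables false

namespace Cfsg.Lib.CZ
open Subgroup Cfsg.Lib Cfsg.Lib.FT MulAction OnePoint
open Matrix (GeneralLinearGroup)
open scoped MatrixGroups

variable {G : Type*} [Group G] [Finite G] {Ω : Type*} [Finite Ω] [MulAction G Ω]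

theorem solv_of_card_le (hf : ∀ g : G, (∀ x : Ω, g • x = x) → g = 1) (h : Nat.card Ω ≤ 4) : Group.IsSolvable G :=
  GW.isSolvable_of_card_dvd_24 ((card_dvd_of_injective (toPermHom G Ω)
    ((injective_iff_map_eq_one _).2 fun g e => hf g (Equiv.ext_iff.1 e))).trans
      (Nat.card_perm (α := Ω) ▸ Nat.factorial_dvd_factorial h))

namespace TZ

variable {a : G} (h : TZ Ω a) (s : Sh G Ω)
include h s

theorem exists_J {x o : Ω} (ho : o ≠ x) : ∃ j : G, zpowers j = ⁅stabilizer G x, stabilizer G x⁆ ∧ (orderOf j).Prime ∧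
    ∀ u, u ≠ x → ∃ m : ℤ, j ^ m • o = u := by
  obtain ⟨j, hj⟩ := exists_gen (h.cycD x)
  have h1 : ∀ g ∈ zpowers j, g • x = x := fun g hg => commutator_le_self _ (hj.le hg)
  have h2 : ∀ g ∈ zpowers j, g ≠ 1 → g • o ≠ o := fun g hg e => mt (h.semi (hj.le hg) ho) e
  have h3 : ∀ g ∈ zpowers j, g • o ≠ x := fun g hg e => ho (smul_left_cancel g (e.trans (h1 g hg).symm))
  have h4 : ∀ g ∈ zpowers j, g ≠ 1 → ∀ u, u ≠ x → u ≠ o → ∃ d : G, d * g * d⁻¹ ∈ zpowers j ∧ (d * g * d⁻¹) • o = u :=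
    fun g hg e u u1 u2 => by
      obtain ⟨d, d1, d2, d3⟩ := s.c2 x o (g • o) u ho (h3 g hg) (h2 g hg e) u1 u2
      exact ⟨d, hj ▸ (mem_normalizer_iff.1 (le_normalizer_commutator_left _ _ d1) g).1 (hj.le hg), by
        rw [mul_smul, inv_smul_eq_iff.2 d2.symm, mul_smul, d3]⟩
  have h5 : j ≠ 1 := fun e => by
    obtain ⟨τ, t2, t3, t4⟩ := h.exists_tau ho
    refine ne_one_of_orderOf_two t2 (h.faith τ fun u => ?_)
    by_cases hu : u = x
    · rwa [hu]
    obtain ⟨g, g1, rfl⟩ := h.two x o x u ho.symm (Ne.symm hu)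
    have := hj.ge (commutator_mem_commutator (show g ∈ stabilizer G x from g1) (show τ ∈ stabilizer G x from t3))
    rw [e, zpowers_one_eq_bot, mem_bot, commutatorElement_eq_one_iff_mul_comm] at this
    rw [← mul_smul, ← this, mul_smul, t4]
  refine ⟨j, hj, ?_, fun u hu => ?_⟩
  · obtain ⟨p, hp, hd⟩ := Nat.exists_prime_and_dvd (mt orderOf_eq_one_iff.1 h5)
    have := Fact.mk hp
    obtain ⟨g, hg, e⟩ := exists_mem_orderOf_eq_of_dvd (H := zpowers j) (Nat.card_zpowers j ▸ hd)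
    obtain ⟨d, d1, d2⟩ := h4 g hg (fun e1 => hp.one_lt.ne (by rw [← e, e1, orderOf_one])) _ (h3 j (mem_zpowers j))
      (h2 j (mem_zpowers j) h5)
    rwa [inv_mul_eq_one.1 (h.semi (hj.le (mul_mem (inv_mem (mem_zpowers j)) d1)) ho (by
      rw [mul_smul, d2, inv_smul_smul])), sm_orderOf_conj, e]
  · by_cases e : u = o
    · exact ⟨0, by rw [zpow_zero, one_smul, e]⟩
    obtain ⟨d, ⟨m, e1⟩, d2⟩ := h4 j (mem_zpowers j) h5 u hu e
    exact ⟨m, (show j ^ m = _ from e1) ▸ d2⟩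

theorem syl (x : Ω) : ∃ p : ℕ, p.Prime ∧ IsSylowIn p ⁅stabilizer G x, stabilizer G x⁆ ⊤ ∧
    N[(⁅stabilizer G x, stabilizer G x⁆ : Subgroup G)] ≤ stabilizer G x := by
  obtain ⟨o, ho, -⟩ := exists_third h.big x x
  obtain ⟨j, hj, hp, ht⟩ := h.exists_J s ho
  have := Fact.mk hp
  have h1 : N[zpowers j] ≤ stabilizer G x := fun g hg => by_contra fun e => hp.one_lt.ne' (orderOf_eq_one_iff.2
    (h.semi (hj.le (mem_zpowers j)) e (by
      have : (g⁻¹ * j * g) • x = x := commutator_le_self _ (hj.le ((mem_normalizer_iff''.1 hg j).1 (mem_zpowers j)))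
      rwa [mul_smul, mul_smul, inv_smul_eq_iff] at this)))
  have h2 : IsPGroup (orderOf j) (zpowers j) := .of_card ((Nat.card_zpowers j).trans (pow_one _).symm)
  rw [← hj]
  refine ⟨_, hp, isSylowIn_top_of_normalizer_le (M := stabilizer G x) ⟨le_normalizer.trans h1, h2, fun R r1 r2 r3 =>
    le_antisymm (fun g hg => ?_) r3⟩ h1, h1⟩
  have := h.zg x
  have : IsZGroup R := .of_injective (inclusion_injective r2)
  have : IsCyclic R := (topEquiv (G := R)).isCyclic.1 (r1.to_subgroup ⊤).isCyclic_of_isZGroup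
  obtain ⟨m, e⟩ := ht (g • o) fun e => ho (smul_left_cancel g (e.trans (r2 hg).symm))
  have h3 : (j ^ m)⁻¹ * g ∈ R := mul_mem (inv_mem (r3 (zpow_mem (mem_zpowers j) m))) hg
  refine inv_mul_eq_one.1 (h.faith ((j ^ m)⁻¹ * g) fun u => ?_) ▸ zpow_mem (mem_zpowers j) m
  by_cases hu : u = x
  · exact hu ▸ r2 h3
  obtain ⟨l, rfl⟩ := ht u hu
  rw [← mul_smul, comm_of_isMulCommutative inferInstance h3 (r3 (zpow_mem (mem_zpowers j) l)), mul_smul, mul_smul, ← e,
    inv_smul_smul]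

theorem pgl : ∃ (p : ℕ) (_ : Fact p.Prime), Nat.card Ω = p + 1 ∧
    Nonempty (G ≃* (GL (Fin 2) (ZMod p) ⧸ center (GL (Fin 2) (ZMod p)))) := by
  obtain ⟨x⟩ := (Nat.card_pos_iff.1 (two_pos.trans h.big)).1
  obtain ⟨o, ho, -⟩ := exists_third h.big x x
  obtain ⟨j, hj, hp, ht⟩ := h.exists_J s ho
  generalize hq : orderOf j = p at hp
  have := Fact.mk hp
  let e : OnePoint (ZMod p) → Ω := fun u => u.elim x fun k => j ^ k.val • o
  have e1 : e ∞ = x := rfl
  have e2 : ∀ m : ℤ, e (m : ZMod p) = j ^ m • o := fun m => by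
    rw [← zpow_mod_orderOf, hq, ← ZMod.val_intCast, zpow_natCast]; rfl
  have j1 : ∀ m : ℤ, j ^ m • x = x := fun m => commutator_le_self _ (hj.le (zpow_mem (mem_zpowers j) m))
  have e3 : ∀ k : ZMod p, e k ≠ x := fun k e' => ho (smul_left_cancel (j ^ k.val) (e'.trans (by
    simpa only [zpow_natCast] using (j1 k.val).symm)))
  have e4 : Function.Injective e := fun u v e' => by
    cases u <;> cases v
    · rfl
    · exact absurd e'.symm (e3 _)
    · exact absurd e' (e3 _)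
    · rename_i k l
      obtain ⟨k, rfl⟩ := ZMod.intCast_surjective k
      obtain ⟨l, rfl⟩ := ZMod.intCast_surjective l
      rw [e2, e2, ← inv_smul_eq_iff, ← mul_smul] at e'
      have := inv_mul_eq_one.1 (h.semi (hj.le (mul_mem (inv_mem (zpow_mem (mem_zpowers j) l))
        (zpow_mem (mem_zpowers j) k))) ho e')
      rw [zpow_eq_zpow_iff_modEq, hq, ← ZMod.intCast_eq_intCast_iff] at this
      rw [this]
  have e5 : Function.Surjective e := fun u => by
    by_cases hu : u = x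
    · exact ⟨∞, hu.symm⟩
    obtain ⟨m, rfl⟩ := ht u hu
    exact ⟨_, e2 m⟩
  have e0 : e (0 : ZMod p) = o := by simpa using e2 0
  have st : ∀ g : G, g • x = x → ∃ m b : ZMod p, ∀ k : ZMod p, g • e k = e (m * k + b :) := fun g hg => by
    obtain ⟨m, e'⟩ := hj.ge ((mem_normalizer_iff.1 (le_normalizer_commutator_left _ _ hg) j).1 (hj.le (mem_zpowers j)))
    obtain ⟨b, e''⟩ := ht (g • o) fun e => ho (smul_left_cancel g (e.trans hg.symm))
    refine ⟨m, b, fun k => ?_⟩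
    obtain ⟨k, rfl⟩ := ZMod.intCast_surjective k
    rw [← Int.cast_mul, ← Int.cast_add, e2, e2, zpow_add, zpow_mul, show j ^ m = _ from e', conj_zpow, mul_smul, e'',
      mul_smul, inv_smul_smul, mul_smul]
  have ne0 : ∀ m : ZMod p, m ≠ 0 → e m ≠ o := fun m hm e' => hm (coe_eq_coe.1 (e4 (e'.trans e0.symm)))
  have af : ∀ m : ZMod p, m ≠ 0 → ∃ g : G, g • x = x ∧ ∀ k : ZMod p, g • e k = e (m * k :) := fun m hm => by
    obtain ⟨d, d1, d2, d3⟩ := s.c2 x o (e (1 : ZMod p)) (e m) ho (e3 _) (ne0 _ one_ne_zero) (e3 _) (ne0 _ hm)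
    obtain ⟨m', b, e'⟩ := st d d1
    obtain rfl : b = 0 := by simpa using coe_eq_coe.1 (e4 ((e' 0).symm.trans (by rw [e0, d2])))
    obtain rfl : m' = m := by simpa using e4 ((e' 1).symm.trans d3)
    exact ⟨d, d1, by simpa using e'⟩
  have tr : ∀ b : ZMod p, ∃ g : G, g • x = x ∧ ∀ k : ZMod p, g • e k = e (k + b :) := fun b => by
    obtain ⟨b, rfl⟩ := ZMod.intCast_surjective b
    refine ⟨j ^ b, j1 b, fun k => ?_⟩
    obtain ⟨k, rfl⟩ := ZMod.intCast_surjective k
    rw [← Int.cast_add, e2, e2, add_comm, zpow_add, mul_smul]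
  obtain ⟨w, w1, w2, w3⟩ : ∃ w : G, w • x = o ∧ w • o = x ∧ w • e (1 : ZMod p) = e (1 : ZMod p) := by
    obtain ⟨w, w1, w2⟩ := h.two x o o x ho.symm ho
    obtain ⟨d, d1, d2, d3⟩ := s.c2 x o (w • e (1 : ZMod p)) (e (1 : ZMod p)) ho
      (fun e' => ne0 _ one_ne_zero (smul_left_cancel w (e'.trans w2.symm)))
      (fun e' => e3 _ (smul_left_cancel w (e'.trans w1.symm))) (e3 _) (ne0 _ one_ne_zero)
    exact ⟨d * w, by rw [mul_smul, w1, d2], by rw [mul_smul, w2, d1], by rw [mul_smul, d3]⟩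
  have w4 : ∀ k : ZMod p, k ≠ 0 → w • e k = e (k⁻¹ :) := fun k hk => by
    obtain ⟨d, d1, d2⟩ := af k hk
    have := s.c1 (d * w) x o ho (by rw [mul_smul, w1, ← e0, d2, mul_zero]) (by rw [mul_smul, w2, d1])
    refine smul_left_cancel d ?_
    rw [d2, mul_inv_cancel₀ hk, ← mul_one k, ← d2, ← w3, ← mul_smul, ← mul_smul d w, ← mul_smul, this, one_smul, w3]
  let R : G → GL (Fin 2) (ZMod p) → Prop := fun g A => ∀ u, g • e u = e (A • u)
  have Rm : ∀ {g g' A A'}, R g A → R g' A' → R (g * g') (A * A') := fun r r' u => by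
    rw [mul_smul, r', r, mul_smul]
  have Ri : ∀ {g A}, R g A → R g⁻¹ A⁻¹ := fun r u => by rw [inv_smul_eq_iff, r, smul_inv_smul]
  have Ru : ∀ {g g' A}, R g A → R g' A → g = g' := fun r r' => inv_mul_eq_one.1 (h.faith _ fun u => by
    obtain ⟨u, rfl⟩ := e5 u
    rw [Rm (Ri r) r', inv_mul_cancel, one_smul])
  have r1 : ∀ g : G, g • x = x → ∃ A, R g A := fun g hg => by
    obtain ⟨m, b, e'⟩ := st g hg
    have hm : m ≠ 0 := fun e'' => by
      simpa using e4 (smul_left_cancel g ((e' 0).trans ((e' 1).trans (by simp [e''])).symm))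
    refine ⟨.mkOfDetNeZero !![m, b; 0, 1] (by simpa using hm), fun u => ?_⟩
    cases u
    · rw [smul_infty_eq_self_iff.2 (by simp), e1, hg]
    · simp [smul_some_eq_ite, e']
  have r2 : R w (.mkOfDetNeZero !![0, 1; 1, 0] (by simp)) := fun u => by
    cases u with
    | infty => simp [smul_infty_eq_ite, e1, e0, w1]
    | coe k => by_cases hk : k = 0 <;> simp [smul_some_eq_ite, hk, e0, e1, w2, w4]
  have r3 : ∀ g : G, ∃ A, R g A := fun g => by
    by_cases hg : g • x = x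
    · exact r1 g hg
    obtain ⟨m, e'⟩ := ht _ hg
    obtain ⟨A, hA⟩ := r1 _ (j1 m)
    obtain ⟨B, hB⟩ := r1 (w * (j ^ m)⁻¹ * g) (by rw [mul_smul, mul_smul, ← e', inv_smul_smul, w2])
    exact ⟨_, by simpa [mul_assoc] using Rm hA (Rm (Ri r2) hB)⟩
  have r4 : ∀ A, ∃ g, R g A := fun A => by
    obtain ⟨g, -, hg⟩ := h.tr (e (A • ∞)) x
    obtain ⟨B, hB⟩ := r3 g
    have h1 := smul_infty_eq_self_iff.1 (e4 (show e ((B * A) • ∞) = e ∞ by rw [mul_smul, ← hB, hg, e1]))
    have h2 := (B * A).det_ne_zero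
    rw [Matrix.det_fin_two, h1, mul_zero, sub_zero, mul_ne_zero_iff] at h2
    obtain ⟨d, d1, d2⟩ := af _ (div_ne_zero h2.1 h2.2)
    obtain ⟨t, t1, t2⟩ := tr ((B * A) 0 1 / (B * A) 1 1)
    have h3 : R (t * d) (B * A) := fun u => by
      cases u
      · rw [smul_infty_eq_self_iff.2 h1, e1, mul_smul, d1, t1]
      · rw [mul_smul, d2, t2, smul_some_eq_ite, h1, zero_mul, zero_add, if_neg h2.2, add_div, mul_div_right_comm]
    exact ⟨_, by simpa using Rm (Ri hB) h3⟩
  choose φ hφ using r4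
  let f : GL (Fin 2) (ZMod p) →* G := MonoidHom.mk' φ fun A B => Ru (hφ _) (Rm (hφ A) (hφ B))
  have h3 : f.ker = center _ := by
    ext A
    rw [GeneralLinearGroup.mem_center_iff_val_mem_range_scalar]
    refine ⟨fun h => ?_, fun ⟨c, hc⟩ => Ru (hφ A) fun u => ?_⟩
    · have h1 : ∀ u : OnePoint (ZMod p), A • u = u := fun u => e4 (by rw [← hφ A, show φ A = 1 from h, one_smul])
      have h2 := smul_infty_eq_self_iff.1 (h1 ∞)
      have h3 := h1 (0 : ZMod p)
      have h4 := h1 (1 : ZMod p)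
      have h5 := A.det_ne_zero
      rw [Matrix.det_fin_two, h2, mul_zero, sub_zero, mul_ne_zero_iff] at h5
      simp [smul_some_eq_ite, h2, h5.2] at h3 h4
      refine ⟨A 1 1, ?_⟩
      ext i j
      fin_cases i <;> fin_cases j <;> simp [h2, h3]
      rw [h3, add_zero, div_eq_one_iff_eq h5.2] at h4
      exact h4.symm
    · have h5 := A.det_ne_zero
      have h6 : ∀ i j, A i j = Matrix.scalar (Fin 2) c i j := fun i j => by rw [hc]
      rw [one_smul]
      cases u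
      · rw [smul_infty_eq_self_iff.2 (by simp [h6])]
      · have : c ≠ 0 := fun e => h5 (by simp [← hc, e])
        simp [smul_some_eq_ite, h6, this]
  refine ⟨p, this, ?_, ⟨((QuotientGroup.quotientMulEquivOfEq h3).symm.trans
    (QuotientGroup.quotientKerEquivOfSurjective f fun g => ?_)).symm⟩⟩
  · rw [← Nat.card_eq_of_bijective e ⟨e4, e5⟩]
    exact Finite.card_option.trans (by rw [Nat.card_zmod])
  · obtain ⟨A, hA⟩ := r3 g
    exact ⟨A, Ru (hφ A) hA⟩

end TZ

end Cfsg.Lib.CZ
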